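import Mathlib.LinearAlgebra.Matrix.Rank
import Mathlib.LinearAlgebra.Matrix.ToLin
import Mathlib.LinearAlgebra.Dimension.Constructions
import Mathlib.LinearAlgebra.Matrix.NonsingularInverse
import Mathlib.LinearAlgebra.LinearIndependent.BaseChange
import Mathlib.Tactic

/-! # Complete families of orthogonal idempotent matrices over a field. -/

set_option autoImplicit false
set_option linter.style.haveILetI false
universe u

noncomputable section

open scoped Matrix

namespace Groth.Agent.DiagGL

variable {M : Type*} [Fintype M] [DecidableEq M] {m : ℕ}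

/-- A complete family of orthogonal idempotent matrices. -/
structure IsSplit {k : Type u} [CommRing k] (P : M → Matrix (Fin m) (Fin m) k) : Prop where
  mul : ∀ a b, P a * P b = if a = b then P a else 0
  sum : ∑ a, P a = 1

variable {k : Type u} [Field k]

/-- The decomposition of `k^m` by a complete family of orthogonal idempotents. -/
def decomp {P : M → Matrix (Fin m) (Fin m) k} (hP : IsSplit P) :
    (Fin m → k) ≃ₗ[k] ∀ a, LinearMap.range (P a).mulVecLin where
  toFun v a := ⟨P a *ᵥ v, v, rfl⟩
  invFun w := ∑ a, (w a : Fin m → k)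
  map_add' v w := by ext a; simp [Matrix.mulVec_add]
  map_smul' c v := by ext a; simp [Matrix.mulVec_smul]
  left_inv v := by
    show ∑ a, P a *ᵥ v = v
    rw [← Matrix.sum_mulVec, hP.sum, Matrix.one_mulVec]
  right_inv w := by
    ext a : 2
    show P a *ᵥ (∑ b, (w b : Fin m → k)) = (w a : Fin m → k)
    have key : ∀ b, P a *ᵥ (w b : Fin m → k) = if a = b then (w b : Fin m → k) else 0 := by
      intro b
      obtain ⟨v, hv⟩ := (w b).2
      rw [← hv, Matrix.mulVecLin_apply, Matrix.mulVec_mulVec, hP.mul]
      split_ifs with h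
      · rw [h]
      · exact Matrix.zero_mulVec _
    rw [Matrix.mulVec_sum, Finset.sum_congr rfl fun b _ => key b, Finset.sum_ite_eq, if_pos (Finset.mem_univ _)]

theorem sum_rank {P : M → Matrix (Fin m) (Fin m) k} (hP : IsSplit P) : ∑ a, (P a).rank = m := by
  have := (decomp hP).finrank_eq
  rw [Module.finrank_fin_fun, Module.finrank_pi_fintype] at this
  exact this.symm

/-- Complete families of orthogonal idempotents with the same ranks are conjugate. -/
theorem exists_conj {P Q : M → Matrix (Fin m) (Fin m) k} (hP : IsSplit P) (hQ : IsSplit Q)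
    (h : ∀ a, (P a).rank = (Q a).rank) :
    ∃ g : Matrix (Fin m) (Fin m) k, IsUnit g ∧ ∀ a, g * P a = Q a * g := by
  classical
  let e := fun a => LinearEquiv.ofFinrankEq (LinearMap.range (P a).mulVecLin) (LinearMap.range (Q a).mulVecLin) (h a)
  let E : (Fin m → k) ≃ₗ[k] (Fin m → k) :=
    (decomp hP).trans ((LinearEquiv.piCongrRight e).trans (decomp hQ).symm)
  refine ⟨LinearMap.toMatrix' E.toLinearMap, ?_, fun a => ?_⟩
  · refine IsUnit.of_mul_eq_one (LinearMap.toMatrix' E.symm.toLinearMap) ?_
    rw [← LinearMap.toMatrix'_comp]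
    simp
  apply Matrix.toLin'.injective
  rw [Matrix.toLin'_mul, Matrix.toLin'_mul, Matrix.toLin'_toMatrix']
  refine LinearMap.ext fun v => ?_
  show E (P a *ᵥ v) = Q a *ᵥ E v
  have h2 : ∀ w, decomp hQ (E w) = fun b => e b (decomp hP w b) := fun w => (decomp hQ).apply_symm_apply _
  apply (decomp hQ).injective
  rw [h2]
  funext b
  have hl : decomp hP (P a *ᵥ v) b = if b = a then decomp hP v b else 0 := by
    apply Subtype.ext
    show P b *ᵥ (P a *ᵥ v) = _
    rw [Matrix.mulVec_mulVec, hP.mul]
    split_ifs with hb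
    · rfl
    · simp
  apply Subtype.ext
  show _ = Q b *ᵥ (Q a *ᵥ E v)
  rw [hl, Matrix.mulVec_mulVec, hQ.mul]
  split_ifs with hb
  · have := congrArg Subtype.val (congrFun (h2 v) b)
    exact this.symm
  · simp

theorem rank_map_eq {K : Type u} [Field K] (φ : k →+* K) (A : Matrix (Fin m) (Fin m) k) :
    (A.map φ).rank = A.rank := by
  letI := φ.toAlgebra
  have hle : ∀ (L : Type u) [Field L] (B : Matrix (Fin m) (Fin m) L), B.rank ≤ m := fun L _ B => by
    simpa using B.rank_le_width
  obtain ⟨I, hI⟩ : ∃ I : Submodule k (Fin m → k), I = LinearMap.range A.mulVecLin := ⟨_, rfl⟩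
  have h1 : (A.map φ).mulVecLin.range =
      Submodule.span K ((fun v : Fin m → k => φ ∘ v) '' (I : Set (Fin m → k))) := by
    apply le_antisymm
    · rw [Matrix.range_mulVecLin]
      refine Submodule.span_mono ?_
      rintro _ ⟨j, rfl⟩
      exact ⟨A.col j, hI ▸ ⟨Pi.single j 1, Matrix.mulVec_single_one A j⟩, rfl⟩
    · refine Submodule.span_le.2 ?_
      rintro _ ⟨v, hv, rfl⟩
      rw [hI] at hv
      obtain ⟨w, rfl⟩ := hv
      exact ⟨φ ∘ w, funext fun i => (RingHom.map_mulVec φ A w i).symm⟩
  let b := Module.finBasis k I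
  have h2 : Submodule.span K ((fun v : Fin m → k => φ ∘ v) '' (I : Set (Fin m → k))) =
      Submodule.span K (Set.range fun i => φ ∘ (b i : Fin m → k)) := by
    refine le_antisymm (Submodule.span_le.2 ?_) (Submodule.span_mono ?_)
    · rintro _ ⟨v, hv, rfl⟩
      have := congrArg (fun x : I => φ ∘ (x : Fin m → k)) (b.sum_repr ⟨v, hv⟩)
      simp only at this
      show φ ∘ v ∈ Submodule.span K _
      rw [← this]
      have hsum : φ ∘ ((∑ i, b.repr ⟨v, hv⟩ i • b i : I) : Fin m → k) =
          ∑ i, φ (b.repr ⟨v, hv⟩ i) • (φ ∘ (b i : Fin m → k)) := by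
        ext j
        simp only [Function.comp_apply, Finset.sum_apply, Pi.smul_apply, smul_eq_mul, ← map_mul, ← map_sum]
        simp [AddSubmonoidClass.coe_finsetSum, Finset.sum_apply, -Module.Basis.sum_repr]
      rw [hsum]
      exact sum_mem fun i _ => Submodule.smul_mem _ _ (Submodule.subset_span ⟨i, rfl⟩)
    · rintro _ ⟨i, rfl⟩
      exact ⟨_, (b i).2, rfl⟩
  have hli : LinearIndependent K fun i => φ ∘ (b i : Fin m → k) := by
    have hk : LinearIndependent k fun i => (b i : Fin m → k) :=
      b.linearIndependent.map' I.subtype (Submodule.ker_subtype I)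
    exact linearIndependent_algebraMap_comp_iff.2 hk
  rw [Matrix.rank, Matrix.rank, h1, h2, finrank_span_eq_card hli, Fintype.card_fin, ← hI]

/-- A standard complete family with prescribed ranks. -/
def diagFam (k : Type u) [CommRing k] (c : Fin m → M) (a : M) : Matrix (Fin m) (Fin m) k :=
  Matrix.diagonal fun i => if c i = a then 1 else 0

theorem isSplit_diagFam (c : Fin m → M) : IsSplit (diagFam k c) where
  mul a b := by
    rw [diagFam, diagFam, Matrix.diagonal_mul_diagonal]
    rcases eq_or_ne a b with rfl | hab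
    · rw [if_pos rfl]; congr 1; ext i; split_ifs <;> simp
    · rw [if_neg hab]; ext i j
      rcases eq_or_ne i j with rfl | hij
      · by_cases h : c i = a <;> simp [h, hab]
      · simp [hij]
  sum := by
    ext i j
    rcases eq_or_ne i j with rfl | hij
    · simp [diagFam, Matrix.sum_apply]
    · simp [diagFam, Matrix.sum_apply, hij]

theorem exists_diagFam_rank {P : M → Matrix (Fin m) (Fin m) k} (hP : IsSplit P) :
    ∃ c : Fin m → M, ∀ a, (diagFam k c a).rank = (P a).rank := by
  classical
  let e : (Σ a, Fin (P a).rank) ≃ Fin m :=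
    Fintype.equivFinOfCardEq (by simp [sum_rank hP])
  refine ⟨fun i => (e.symm i).1, fun a => ?_⟩
  rw [diagFam, Matrix.rank_diagonal]
  have : {i : Fin m // (if (e.symm i).1 = a then (1 : k) else 0) ≠ 0} ≃ Fin (P a).rank :=
    ((e.symm.subtypeEquiv (q := fun x => x.1 = a) fun i => by by_cases h : (e.symm i).1 = a <;> simp [h])).trans
      (Equiv.sigmaSubtype a)
  exact (Fintype.card_congr this).trans (Fintype.card_fin _)

end Groth.Agent.DiagGL
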