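import Groth.Agent.Lib.DiagGL.Points
import Groth.Agent.Lib.DiagGL.Idem

/-! # Character and matrix coordinates of diagonalisable groups and general linear groups over any base. -/

set_option autoImplicit false
set_option linter.style.haveILetI false
set_option backward.isDefEq.respectTransparency.types false
universe u

open CategoryTheory MonoidalCategory CartesianMonoidalCategory MonObj AlgebraicGeometry Opposite

noncomputable section

namespace Groth.Agent.DiagGL

/-- Character coordinates on a group object. -/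
structure Chars {S : Scheme.{u}} (M : Type) [AddCommGroup M] (σ : Over S) [GrpObj σ] where
  ch : ∀ {T : Over S}, (T ⟶ σ) → (Multiplicative M →* Γ(T.left, ⊤))
  nat : ∀ {T T' : Over S} (t : T' ⟶ T) (x : T ⟶ σ) (a : Multiplicative M),
    ch (t ≫ x) a = t.left.appTop (ch x a)
  mul : ∀ {T : Over S} (x y : T ⟶ σ) (a : Multiplicative M), ch (x * y) a = ch x a * ch y a
  inj : ∀ {T : Over S} {x y : T ⟶ σ}, (∀ a, ch x a = ch y a) → x = y
  surj : ∀ {T : Over S} (c : Multiplicative M →* Γ(T.left, ⊤)), ∃ x : T ⟶ σ, ch x = c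

/-- Matrix coordinates on a group object. -/
structure Mats {S : Scheme.{u}} (m : ℕ) (G : Over S) [GrpObj G] where
  mat : ∀ {T : Over S}, (T ⟶ G) → Matrix (Fin m) (Fin m) Γ(T.left, ⊤)
  nat : ∀ {T T' : Over S} (t : T' ⟶ T) (x : T ⟶ G), mat (t ≫ x) = (mat x).map t.left.appTop
  mul : ∀ {T : Over S} (x y : T ⟶ G), mat (x * y) = mat x * mat y
  inj : ∀ {T : Over S} {x y : T ⟶ G}, mat x = mat y → x = y
  isUnit : ∀ {T : Over S} (x : T ⟶ G), IsUnit (mat x)
  surj : ∀ {T : Over S} {A : Matrix (Fin m) (Fin m) Γ(T.left, ⊤)}, IsUnit A → ∃ x : T ⟶ G, mat x = A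

theorem Mats.one {S : Scheme.{u}} {m : ℕ} {G : Over S} [GrpObj G] (Mt : Mats m G) (T : Over S) :
    Mt.mat (1 : T ⟶ G) = 1 :=
  (Mt.isUnit (1 : T ⟶ G)).mul_left_cancel
    (by rw [← Mt.mul, _root_.one_mul (1 : T ⟶ G), _root_.mul_one])

theorem Chars.one {S : Scheme.{u}} {M : Type} [AddCommGroup M] {σ : Over S} [GrpObj σ] (C : Chars M σ)
    (T : Over S) (a : Multiplicative M) : C.ch (1 : T ⟶ σ) a = 1 := by
  have h := C.mul (1 : T ⟶ σ) 1 a
  rw [_root_.one_mul (1 : T ⟶ σ)] at h
  have hu : IsUnit (C.ch (1 : T ⟶ σ) a) := (Group.isUnit a).map _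
  exact (hu.mul_left_cancel (h.symm.trans (_root_.mul_one _).symm))

/-- `GL_m` over an affine base. -/
def matsGLn (R : Type u) [CommRing R] (m : ℕ) : Mats m (CoactBr.sp R (CoordGrp.GLn m R)) where
  mat x := mat x
  nat := mat_comp
  mul := mat_mul
  inj := mat_injective
  isUnit := mat_isUnit
  surj := exists_mat_eq

section BaseChange

variable {S S' : Scheme.{u}} (φ : S' ⟶ S) (G : Over S) [GrpObj G]

/-- The point of `G` underlying a point of the base change. -/
def fl {T : Over S'} (x : T ⟶ Red.bc φ G) : (Over.map φ).obj T ⟶ G :=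
  ((Over.mapPullbackAdj φ).homEquiv T G).symm x

theorem fl_injective {T : Over S'} : Function.Injective (fl φ G (T := T)) :=
  ((Over.mapPullbackAdj φ).homEquiv T G).symm.injective

theorem fl_surjective {T : Over S'} : Function.Surjective (fl φ G (T := T)) :=
  ((Over.mapPullbackAdj φ).homEquiv T G).symm.surjective

theorem fl_comp {T T' : Over S'} (t : T' ⟶ T) (x : T ⟶ Red.bc φ G) :
    fl φ G (t ≫ x) = (Over.map φ).map t ≫ fl φ G x :=
  Adjunction.homEquiv_naturality_left_symm _ _ _

theorem fl_mul {T : Over S'} (x y : T ⟶ Red.bc φ G) : fl φ G (x * y) = fl φ G x * fl φ G y := by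
  obtain ⟨x, rfl⟩ := ((Over.mapPullbackAdj φ).homEquiv T G).surjective x
  obtain ⟨y, rfl⟩ := ((Over.mapPullbackAdj φ).homEquiv T G).surjective y
  simp only [fl, Equiv.symm_apply_apply]
  rw [Equiv.symm_apply_eq]
  simp only [Adjunction.homEquiv_unit]
  exact ((congrArg _ (Functor.map_mul _ x y)).trans (MonObj.comp_mul _ _ _)).symm

/-- Base change of character coordinates. -/
def Chars.baseChange {M : Type} [AddCommGroup M] (C : Chars M G) : Chars M (Red.bc φ G) where
  ch x := C.ch (fl φ G x)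
  nat t x a := by
    rw [fl_comp, C.nat]
    rfl
  mul x y a := by rw [fl_mul, C.mul]
  inj h := fl_injective φ G (C.inj h)
  surj {T} c := by
    obtain ⟨x, hx⟩ := C.surj (T := (Over.map φ).obj T) c
    obtain ⟨y, rfl⟩ := fl_surjective φ G x
    exact ⟨y, hx⟩

/-- Base change of matrix coordinates. -/
def Mats.baseChange {m : ℕ} (C : Mats m G) : Mats m (Red.bc φ G) where
  mat x := C.mat (fl φ G x)
  nat t x := by
    rw [fl_comp, C.nat]
    rfl
  mul x y := by rw [fl_mul, C.mul]
  inj h := fl_injective φ G (C.inj h)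
  isUnit x := C.isUnit _
  surj {T} A hA := by
    obtain ⟨x, hx⟩ := C.surj (T := (Over.map φ).obj T) (A := A) hA
    obtain ⟨y, rfl⟩ := fl_surjective φ G x
    exact ⟨y, hx⟩

theorem fl_comp_map {T : Over S'} {H G : Over S} [GrpObj H] [GrpObj G] (x : T ⟶ Red.bc φ H) (f : H ⟶ G) :
    fl φ G (x ≫ (Over.pullback φ).map f) = fl φ H x ≫ f :=
  Adjunction.homEquiv_naturality_right_symm _ _ _

end BaseChange

/-- Transport of character coordinates along an isomorphism of groups. -/
def Chars.transport {S : Scheme.{u}} {M : Type} [AddCommGroup M] {σ τ : Over S} [GrpObj σ] [GrpObj τ]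
    (C : Chars M τ) (e : Grp.mk σ ≅ Grp.mk τ) : Chars M σ where
  ch x := C.ch (x ≫ e.hom.hom.hom)
  nat t x a := by rw [Category.assoc, C.nat]
  mul x y a := by
    haveI : IsMonHom e.hom.hom.hom := e.hom.hom.isMonHom_hom
    rw [MonObj.mul_comp, C.mul]
  inj {T x y} h := by
    have := congrArg (· ≫ e.inv.hom.hom) (C.inj h)
    simpa [← Grp.comp', ← Mon.comp_hom'] using this
  surj c := by
    obtain ⟨x, rfl⟩ := C.surj c
    exact ⟨x ≫ e.inv.hom.hom, by simp [← Grp.comp', ← Mon.comp_hom']⟩

/-- Characters of `Spec R[M]`. -/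
def charsDiag (R : Type u) [CommRing R] (M : Type) [AddCommGroup M] : Chars M (Red.diag R M) where
  ch {T} x := (ev (T := T) (A := MonoidAlgebra R (Multiplicative M)) x : _ →* _).comp
    (MonoidAlgebra.of R (Multiplicative M))
  nat {T T'} t x a := ev_comp (A := MonoidAlgebra R (Multiplicative M)) t x _
  mul {T} x y a := ev_mul_glike (T := T) (A := MonoidAlgebra R (Multiplicative M)) x y (by simp)
  inj {T x y} h := by
    letI := (alg T).toAlgebra
    refine ev_injective (A := MonoidAlgebra R (Multiplicative M)) fun a => ?_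
    refine DFunLike.congr_fun (?_ : (⟨ev (T := T) (A := MonoidAlgebra R (Multiplicative M)) x, ev_algebraMap _⟩ : MonoidAlgebra R (Multiplicative M) →ₐ[R] Γ(T.left, ⊤)) =
      ⟨ev (T := T) (A := MonoidAlgebra R (Multiplicative M)) y, ev_algebraMap _⟩) a
    exact (MonoidAlgebra.lift R Γ(T.left, ⊤) (Multiplicative M)).symm.injective (MonoidHom.ext h)
  surj {T} c := by
    letI := (alg T).toAlgebra
    let χ := MonoidAlgebra.lift R Γ(T.left, ⊤) (Multiplicative M) c
    refine ⟨mk χ.toRingHom fun r => χ.commutes r, ?_⟩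
    refine MonoidHom.ext fun a => ?_
    show ev (T := T) (A := MonoidAlgebra R (Multiplicative M)) (mk χ.toRingHom fun r => χ.commutes r) _ = _
    rw [ev_mk]
    exact MonoidAlgebra.lift_of c a

/-- Characters of `D_S(M)`. -/
def charsDS (S : Scheme.{u}) (M : Type) [AddCommGroup M] : Chars M (Red.DS S M) :=
  (charsDiag (ULift.{u} ℤ) M).baseChange _ _

theorem nonempty_chars {S : Scheme.{u}} {M : Type} [AddCommGroup M] {σ : Over S} [GrpObj σ]
    (h : Red.IsSplitTorusWith M σ) : Nonempty (Chars M σ) :=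
  h.map (fun e => (charsDS S M).transport e)

end Groth.Agent.DiagGL
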