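import Groth.Agent.Lib.DiagGL.Split
import Groth.Prelude.Def_AGF

/-! # Homomorphisms from diagonalisable groups to `GL_m` as gradings, with conjugation and base change. -/

set_option autoImplicit false
set_option linter.style.haveILetI false
set_option linter.unusedSectionVars false
set_option backward.isDefEq.respectTransparency.types false
universe u

open CategoryTheory MonoidalCategory CartesianMonoidalCategory MonObj AlgebraicGeometry Opposite

noncomputable section

namespace Groth.Agent.DiagGL

variable {k : Type u} [Field k] {M : Type} [AddCommGroup M] [Fintype M] {m : ℕ}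
variable {T : Over (Spec (CommRingCat.of k))}

theorem mul_expand (h : Matrix (Fin m) (Fin m) k) (c : Multiplicative M →* Γ(T.left, ⊤))
    (P : M → Matrix (Fin m) (Fin m) k) : h.map (alg T) * expand c P = expand c fun a => h * P a := by
  simp [expand, Finset.mul_sum, mul_smul_comm, Matrix.map_mul]

theorem expand_mul_right (h : Matrix (Fin m) (Fin m) k) (c : Multiplicative M →* Γ(T.left, ⊤))
    (P : M → Matrix (Fin m) (Fin m) k) : expand c P * h.map (alg T) = expand c fun a => P a * h := by
  simp [expand, Finset.sum_mul, smul_mul_assoc, Matrix.map_mul]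

theorem expand_mul_expand [DecidableEq M] {P : M → Matrix (Fin m) (Fin m) k} (hP : IsSplit P)
    (c c' : Multiplicative M →* Γ(T.left, ⊤)) : expand c P * expand c' P = expand (c * c') P := by
  have key : ∀ a b, (P a).map (alg T) * (P b).map (alg T) = if a = b then (P a).map (alg T) else 0 := by
    intro a b
    rw [← Matrix.map_mul, hP.mul]
    split_ifs
    · rfl
    · simp
  simp [expand, Finset.sum_mul, Finset.mul_sum, smul_mul_assoc, mul_smul_comm, smul_smul, key, mul_comm]

theorem expand_one [DecidableEq M] {P : M → Matrix (Fin m) (Fin m) k} (hP : IsSplit P) :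
    expand (1 : Multiplicative M →* Γ(T.left, ⊤)) P = 1 := by
  simp only [expand, MonoidHom.one_apply, one_smul]
  refine (map_sum ((alg T).mapMatrix) P Finset.univ).symm.trans ?_
  rw [hP.sum, map_one]

theorem isUnit_expand [DecidableEq M] {P : M → Matrix (Fin m) (Fin m) k} (hP : IsSplit P)
    (c : Multiplicative M →* Γ(T.left, ⊤)) : IsUnit (expand c P) := by
  refine IsUnit.of_mul_eq_one (expand (c.comp (AddMonoidHom.toMultiplicative (negAddMonoidHom : M →+ M))) P) ?_
  rw [expand_mul_expand hP]
  convert expand_one hP (T := T) using 2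
  ext a
  show c a * c _ = 1
  rw [← map_mul]
  convert map_one c
  apply Multiplicative.toAdd.injective
  simp only [toAdd_one]
  exact add_neg_cancel _

/-- Pushing a family forward along a map of index types. -/
def push [DecidableEq M] {N : Type} [Fintype N] (α : N → M) (P : N → Matrix (Fin m) (Fin m) k) (a : M) :
    Matrix (Fin m) (Fin m) k :=
  ∑ b with α b = a, P b

theorem isSplit_push [DecidableEq M] {N : Type} [Fintype N] [DecidableEq N] (α : N → M)
    {P : N → Matrix (Fin m) (Fin m) k} (hP : IsSplit P) : IsSplit (push α P) where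
  mul a a' := by
    simp only [push, Finset.sum_mul, Finset.mul_sum, hP.mul]
    split_ifs with h
    · subst h
      refine Finset.sum_congr rfl fun b hb => ?_
      rw [Finset.sum_ite_eq']
      simp [(Finset.mem_filter.1 hb).2]
    · refine Finset.sum_eq_zero fun b hb => Finset.sum_eq_zero fun b' hb' => ?_
      simp only [Finset.mem_filter] at hb hb'
      rw [if_neg]
      rintro rfl
      first
        | exact h (hb.2.symm.trans hb'.2)
        | exact h (hb'.2.symm.trans hb.2)
  sum := by
    simp only [push]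
    rw [Finset.sum_fiberwise, hP.sum]

theorem expand_push [DecidableEq M] {N : Type} [AddCommGroup N] [Fintype N] (α : N →+ M)
    (c : Multiplicative M →* Γ(T.left, ⊤)) (P : N → Matrix (Fin m) (Fin m) k) :
    expand (c.comp (AddMonoidHom.toMultiplicative α)) P = expand c (push α P) := by
  simp only [expand, push]
  rw [← Finset.sum_fiberwise Finset.univ α]
  refine Finset.sum_congr rfl fun a _ => ?_
  rw [show (∑ b with α b = a, P b).map (alg T) = ∑ b with α b = a, (P b).map (alg T) from
    map_sum ((alg T).mapMatrix) _ _, Finset.smul_sum]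
  refine Finset.sum_congr rfl fun b hb => ?_
  rw [← (Finset.mem_filter.1 hb).2]
  rfl

/-- A split family of `1 × 1` matrices has exactly one member equal to `1`. -/
theorem exists_one_of_isSplit_one [DecidableEq M] {P : M → Matrix (Fin 1) (Fin 1) k} (hP : IsSplit P) :
    ∃ a₀, ∀ a, P a = if a = a₀ then 1 else 0 := by
  have hz : ∀ a, P a = 0 ∨ P a = 1 := by
    intro a
    have h := congrFun (congrFun (hP.mul a a) 0) 0
    rw [if_pos rfl, Matrix.mul_apply, Fin.sum_univ_one] at h
    rcases eq_or_ne (P a 0 0) 0 with h0 | h0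
    · exact Or.inl (Matrix.ext fun i j => by rw [Subsingleton.elim i 0, Subsingleton.elim j 0]; simpa using h0)
    · refine Or.inr (Matrix.ext fun i j => ?_)
      rw [Subsingleton.elim i 0, Subsingleton.elim j 0, Matrix.one_apply_eq]
      exact mul_left_cancel₀ h0 (h.trans (_root_.mul_one _).symm)
  obtain ⟨a₀, ha₀⟩ : ∃ a₀, P a₀ = 1 := by
    by_contra hne
    push Not at hne
    have := hP.sum
    rw [Finset.sum_eq_zero fun a _ => (hz a).resolve_right (hne a)] at this
    exact zero_ne_one this
  refine ⟨a₀, fun a => ?_⟩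
  split_ifs with h
  · rw [h, ha₀]
  · have := hP.mul a a₀
    rwa [if_neg h, ha₀, _root_.mul_one] at this

section BaseChange

variable (K : Type u) [Field K] [Algebra k K]

/-- `Spec K ⟶ Spec k`. -/
abbrev ext' : Spec (CommRingCat.of K) ⟶ Spec (CommRingCat.of k) :=
  Spec.map (CommRingCat.ofHom (algebraMap k K))

theorem alg_map (T : Over (Spec (CommRingCat.of K))) (r : k) :
    alg ((Over.map (ext' (k := k) K)).obj T) r = alg T (algebraMap k K r) := by
  show ((Scheme.ΓSpecIso (CommRingCat.of k)).inv ≫
    (T.hom ≫ Spec.map (CommRingCat.ofHom (algebraMap k K))).appTop).hom r = _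
  rw [Scheme.Hom.comp_appTop, ← Category.assoc, ← Scheme.ΓSpecIso_inv_naturality]
  rfl

theorem expand_map (T : Over (Spec (CommRingCat.of K)))
    (c : Multiplicative M →* Γ(T.left, ⊤)) (P : M → Matrix (Fin m) (Fin m) k) :
    expand (T := (Over.map (ext' (k := k) K)).obj T) c P =
      expand c fun a => (P a).map (algebraMap k K) := by
  simp only [expand]
  refine Finset.sum_congr rfl fun a _ => ?_
  congr 1
  ext i j
  exact alg_map K T (P a i j)

/-- The base change of a graded homomorphism. -/
theorem mat_baseChange {σ G : Over (Spec (CommRingCat.of k))} [GrpObj σ] [GrpObj G] (C : Chars M σ)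
    (Mt : Mats m G) (i : σ ⟶ G) {P : M → Matrix (Fin m) (Fin m) k}
    (hP : ∀ (T : Over (Spec (CommRingCat.of k))) (x : T ⟶ σ), Mt.mat (x ≫ i) = expand (C.ch x) P)
    (T : Over (Spec (CommRingCat.of K))) (x : T ⟶ Red.bc (ext' (k := k) K) σ) :
    (Mt.baseChange (ext' K) G).mat (x ≫ (Over.pullback (ext' (k := k) K)).map i) =
      expand ((C.baseChange (ext' K) σ).ch x) fun a => (P a).map (algebraMap k K) := by
  show Mt.mat (fl _ _ _) = _
  rw [fl_comp_map, hP]
  exact expand_map K T _ P

theorem bc_cancel {σ G : Over (Spec (CommRingCat.of k))} [GrpObj σ] [GrpObj G] (i : σ ⟶ G) [Mono i]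
    {T : Over (Spec (CommRingCat.of K))} {x y : T ⟶ Red.bc (ext' (k := k) K) σ}
    (h : x ≫ (Over.pullback (ext' (k := k) K)).map i = y ≫ (Over.pullback (ext' (k := k) K)).map i) : x = y := by
  apply fl_injective
  rw [← cancel_mono i, ← fl_comp_map, ← fl_comp_map, h]

end BaseChange

section Rational

variable {G : Over (Spec (CommRingCat.of k))} [GrpObj G] (Mt : Mats m G)

theorem alg_unit_bijective : Function.Bijective (alg (𝟙_ (Over (Spec (CommRingCat.of k))))) := by
  have : alg (𝟙_ (Over (Spec (CommRingCat.of k)))) = ((Scheme.ΓSpecIso (CommRingCat.of k)).inv).hom := by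
    show ((Scheme.ΓSpecIso (CommRingCat.of k)).inv ≫ Scheme.Hom.appTop (𝟙 (Spec (CommRingCat.of k)))).hom = _
    rw [Scheme.Hom.id_appTop, Category.comp_id]
  rw [this]
  exact (Scheme.ΓSpecIso (CommRingCat.of k)).commRingCatIsoToRingEquiv.symm.bijective

theorem exists_matrix (g : 𝟙_ (Over (Spec (CommRingCat.of k))) ⟶ G) :
    ∃ h : Matrix (Fin m) (Fin m) k, IsUnit h ∧
      ∀ T : Over (Spec (CommRingCat.of k)), Mt.mat (toUnit T ≫ g) = h.map (alg T) := by
  let e := RingEquiv.ofBijective (alg (𝟙_ (Over (Spec (CommRingCat.of k))))) alg_unit_bijective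
  refine ⟨e.mapMatrix.symm (Mt.mat g), (Mt.isUnit g).map _, fun T => ?_⟩
  rw [Mt.nat]
  ext i j
  simp only [Matrix.map_apply]
  rw [← alg_comp (toUnit T)]
  congr 1
  exact (e.apply_symm_apply _).symm

theorem exists_point {h : Matrix (Fin m) (Fin m) k} (hh : IsUnit h) :
    ∃ g : 𝟙_ (Over (Spec (CommRingCat.of k))) ⟶ G,
      ∀ T : Over (Spec (CommRingCat.of k)), Mt.mat (toUnit T ≫ g) = h.map (alg T) := by
  obtain ⟨g, hg⟩ := Mt.surj (hh.map ((alg (𝟙_ (Over (Spec (CommRingCat.of k))))).mapMatrix (m := Fin m)))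
  refine ⟨g, fun T => ?_⟩
  rw [Mt.nat, hg]
  ext i j
  exact alg_comp (toUnit T) (h i j)

theorem mat_conjBy {H : Over (Spec (CommRingCat.of k))} {g : 𝟙_ (Over (Spec (CommRingCat.of k))) ⟶ G}
    (i : H ⟶ G) {h : Matrix (Fin m) (Fin m) k}
    (hg : ∀ T : Over (Spec (CommRingCat.of k)), Mt.mat (toUnit T ≫ g) = h.map (alg T)) (x : T ⟶ H) :
    Mt.mat (x ≫ AGF.conjBy g i) * h.map (alg T) = h.map (alg T) * Mt.mat (x ≫ i) := by
  have e : (x ≫ AGF.conjBy g i) * (toUnit T ≫ g) = (toUnit T ≫ g) * (x ≫ i) := by
    simp only [AGF.conjBy, MonObj.comp_mul, GrpObj.comp_inv, comp_toUnit_assoc]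
    group
  rw [← hg, ← Mt.mul, ← Mt.mul, e]

theorem isUnit_map {h : Matrix (Fin m) (Fin m) k} (hh : IsUnit h) : IsUnit (h.map (alg T)) :=
  hh.map ((alg T).mapMatrix)

end Rational

end Groth.Agent.DiagGL
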