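import Groth.Prelude.Def_CoactBr
import Groth.Prelude.Def_Red
import Groth.Prelude.Def_GLin4
import Mathlib.AlgebraicGeometry.Group.Affine
import Mathlib.LinearAlgebra.Matrix.NonsingularInverse
import Mathlib.Tactic

/-! # Points of affine group schemes in coordinates: `T ⟶ Spec A` as algebra maps `A → Γ(T)`. -/

set_option autoImplicit false
set_option linter.style.haveILetI false
set_option backward.isDefEq.respectTransparency.types false
universe u

open CategoryTheory MonoidalCategory CartesianMonoidalCategory MonObj AlgebraicGeometry Opposite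
open scoped TensorProduct

noncomputable section

namespace Groth.Agent.DiagGL

variable {R : Type u} [CommRing R]

/-- The structure map on global sections of an object over `Spec R`. -/
def alg (T : Over (Spec (CommRingCat.of R))) : R →+* Γ(T.left, ⊤) :=
  ((Scheme.ΓSpecIso (CommRingCat.of R)).inv ≫ T.hom.appTop).hom

variable {A : Type u} [CommRing A] [Algebra R A] {T : Over (Spec (CommRingCat.of R))}

/-- The underlying morphism of a point, typed with target `Spec A`. -/
abbrev lft (f : T ⟶ CoactBr.sp R A) : T.left ⟶ Spec (CommRingCat.of A) := f.left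

theorem lft_w (f : T ⟶ CoactBr.sp R A) : lft f ≫ Spec.map (CommRingCat.ofHom (algebraMap R A)) = T.hom :=
  Over.w f

/-- The coordinates of a point. -/
def ev (f : T ⟶ CoactBr.sp R A) : A →+* Γ(T.left, ⊤) :=
  ((Scheme.ΓSpecIso (CommRingCat.of A)).inv ≫ (lft f).appTop).hom

theorem ev_comp {T' : Over (Spec (CommRingCat.of R))} (t : T' ⟶ T) (f : T ⟶ CoactBr.sp R A) (a : A) :
    ev (t ≫ f) a = t.left.appTop (ev f a) := by
  show ((Scheme.ΓSpecIso (CommRingCat.of A)).inv ≫ (t.left ≫ lft f).appTop).hom a = _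
  rw [Scheme.Hom.comp_appTop]
  rfl

theorem ev_pt {B : Type u} [CommRing B] [Algebra R B] (φ : A →ₐ[R] B) (a : A) :
    ev (CoactBr.pt φ) a = (Scheme.ΓSpecIso (CommRingCat.of B)).inv (φ a) :=
  (ConcreteCategory.congr_hom (Scheme.ΓSpecIso_inv_naturality (CommRingCat.ofHom φ.toRingHom)) a).symm

theorem ev_algebraMap (f : T ⟶ CoactBr.sp R A) (r : R) : ev f (algebraMap R A r) = alg T r := by
  have h : (Scheme.ΓSpecIso (CommRingCat.of R)).inv ≫ (Spec.map (CommRingCat.ofHom (algebraMap R A))).appTop =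
      CommRingCat.ofHom (algebraMap R A) ≫ (Scheme.ΓSpecIso (CommRingCat.of A)).inv :=
    (Scheme.ΓSpecIso_inv_naturality _).symm
  have hw : T.hom.appTop = (Spec.map (CommRingCat.ofHom (algebraMap R A))).appTop ≫ (lft f).appTop := by
    rw [← Scheme.Hom.comp_appTop, lft_w]
  show _ = ((Scheme.ΓSpecIso (CommRingCat.of R)).inv ≫ T.hom.appTop).hom r
  rw [hw, reassoc_of% h]
  rfl

variable (R T) in
/-- The object `Spec Γ(T)`. -/
def canTarget : Over (Spec (CommRingCat.of R)) :=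
  letI := (alg T).toAlgebra
  CoactBr.sp R Γ(T.left, ⊤)

theorem can_aux (T : Over (Spec (CommRingCat.of R))) :
    T.left.toSpecΓ ≫ Spec.map (CommRingCat.ofHom (alg T)) = T.hom := by
  rw [show CommRingCat.ofHom (alg T) = (Scheme.ΓSpecIso (CommRingCat.of R)).inv ≫ T.hom.appTop from rfl,
    Spec.map_comp, ← Category.assoc, ← Scheme.toSpecΓ_naturality, Category.assoc,
    ← SpecMap_ΓSpecIso_hom, ← Spec.map_comp, Iso.inv_hom_id, Spec.map_id, Category.comp_id]

/-- Every point factors as the canonical map to `Spec Γ(T)` followed by an algebra point. -/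
def mk (φ : A →+* Γ(T.left, ⊤)) (hφ : ∀ r, φ (algebraMap R A r) = alg T r) : T ⟶ CoactBr.sp R A :=
  Over.homMk (T.left.toSpecΓ ≫ Spec.map (CommRingCat.ofHom φ)) (by
    show (T.left.toSpecΓ ≫ Spec.map (CommRingCat.ofHom φ)) ≫ Spec.map (CommRingCat.ofHom (algebraMap R A)) = _
    rw [Category.assoc, ← Spec.map_comp, ← CommRingCat.ofHom_comp, show φ.comp (algebraMap R A) = alg T from RingHom.ext hφ]
    exact can_aux T)

theorem ev_mk (φ : A →+* Γ(T.left, ⊤)) (hφ : ∀ r, φ (algebraMap R A r) = alg T r) : ev (mk φ hφ) = φ := by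
  show ((Scheme.ΓSpecIso (CommRingCat.of A)).inv ≫
    (T.left.toSpecΓ ≫ Spec.map (CommRingCat.ofHom φ)).appTop).hom = φ
  rw [Scheme.Hom.comp_appTop, Scheme.toSpecΓ_appTop, ← Category.assoc,
    ← Scheme.ΓSpecIso_inv_naturality, Category.assoc, Iso.inv_hom_id, Category.comp_id]
  rfl

theorem ev_injective {f g : T ⟶ CoactBr.sp R A} (h : ∀ a, ev f a = ev g a) : f = g := by
  apply Over.OverMorphism.ext
  show lft f = lft g
  have key : ∀ f : T ⟶ CoactBr.sp R A, lft f = T.left.toSpecΓ ≫ Spec.map (CommRingCat.ofHom (ev f)) := by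
    intro f
    rw [show CommRingCat.ofHom (ev f) = (Scheme.ΓSpecIso (CommRingCat.of A)).inv ≫ (lft f).appTop from rfl,
      Spec.map_comp, ← Category.assoc, ← Scheme.toSpecΓ_naturality, Category.assoc, ← SpecMap_ΓSpecIso_hom,
      ← Spec.map_comp, Iso.inv_hom_id, Spec.map_id, Category.comp_id]
  rw [key f, key g, RingHom.ext h]

theorem ev_mul {A : Type u} [CommRing A] [Bialgebra R A] (f g : T ⟶ CoactBr.sp R A) (a : A) :
    letI := (alg T).toAlgebra
    ev (f * g) a = (Algebra.TensorProduct.lift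
      (R := R) (S := R) ⟨ev f, ev_algebraMap f⟩ ⟨ev g, ev_algebraMap g⟩ fun _ _ => .all _ _)
      (Bialgebra.comulAlgHom R A a) := by
  letI := (alg T).toAlgebra
  let t : T ⟶ CoactBr.sp R Γ(T.left, ⊤) := Over.homMk T.left.toSpecΓ (can_aux T)
  let φ : A →ₐ[R] Γ(T.left, ⊤) := ⟨ev f, ev_algebraMap f⟩
  let ψ : A →ₐ[R] Γ(T.left, ⊤) := ⟨ev g, ev_algebraMap g⟩
  have ht : ∀ (χ : A →ₐ[R] Γ(T.left, ⊤)) (b : A), ev (t ≫ CoactBr.pt χ) b = χ b := fun χ b => by
    rw [ev_comp, ev_pt]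
    exact (ConcreteCategory.congr_hom (congrArg (fun e => (Scheme.ΓSpecIso _).inv ≫ e)
      (Scheme.toSpecΓ_appTop T.left)) (χ b)).trans (ConcreteCategory.congr_hom (Iso.inv_hom_id _) (χ b))
  have hf : f = t ≫ CoactBr.pt φ := ev_injective fun b => (ht φ b).symm
  have hg : g = t ≫ CoactBr.pt ψ := ev_injective fun b => (ht ψ b).symm
  conv_lhs => rw [hf, hg, ← MonObj.comp_mul, CoactBr.pt_mul_pt]
  exact ht _ a

theorem ev_mul_glike {A : Type u} [CommRing A] [Bialgebra R A] (f g : T ⟶ CoactBr.sp R A) {a : A}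
    (ha : Coalgebra.comul (R := R) a = a ⊗ₜ[R] a) : ev (f * g) a = ev f a * ev g a := by
  letI := (alg T).toAlgebra
  rw [ev_mul]
  show (Algebra.TensorProduct.lift _ _ _) (Coalgebra.comul (R := R) a) = _
  rw [ha]
  simp

/-- The matrix of a point of `GL_m`. -/
def mat {m : ℕ} (f : T ⟶ CoactBr.sp R (CoordGrp.GLn m R)) : Matrix (Fin m) (Fin m) Γ(T.left, ⊤) :=
  Matrix.of fun i j => ev f (CoordGrp.GLn.X i j)

variable {m : ℕ}

theorem mat_comp {T' : Over (Spec (CommRingCat.of R))} (t : T' ⟶ T) (f : T ⟶ CoactBr.sp R (CoordGrp.GLn m R)) :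
    mat (t ≫ f) = (mat f).map t.left.appTop := by
  ext i j; simp [mat, ev_comp]

theorem mat_mul (f g : T ⟶ CoactBr.sp R (CoordGrp.GLn m R)) : mat (f * g) = mat f * mat g := by
  letI := (alg T).toAlgebra
  refine Matrix.ext fun i j => ?_
  show ev (f * g) _ = _
  rw [ev_mul]
  show (Algebra.TensorProduct.lift _ _ _) (Coalgebra.comul (R := R) (CoordGrp.GLn.X i j)) = _
  rw [CoordGrp.GLn.comul_X, map_sum, Matrix.mul_apply]
  exact Finset.sum_congr rfl fun l _ => Algebra.TensorProduct.lift_tmul _ _ _ _ _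

theorem det_mat (f : T ⟶ CoactBr.sp R (CoordGrp.GLn m R)) :
    (mat f).det * ev f CoordGrp.GLn.Dinv = 1 := by
  have h := congrArg (ev f) (CoordGrp.GLn.det_mul_Dinv (n := m) (k := R))
  rw [map_mul, map_one, CoordGrp.GLn.det_eq, RingHom.map_det] at h
  convert h using 3
  ext i j
  rfl

theorem mat_isUnit (f : T ⟶ CoactBr.sp R (CoordGrp.GLn m R)) : IsUnit (mat f) :=
  (Matrix.isUnit_iff_isUnit_det _).2 (IsUnit.of_mul_eq_one _ (det_mat f))

theorem mat_one : mat (1 : T ⟶ CoactBr.sp R (CoordGrp.GLn m R)) = 1 :=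
  (mat_isUnit (1 : T ⟶ CoactBr.sp R (CoordGrp.GLn m R))).mul_left_cancel
    (by rw [← mat_mul, _root_.one_mul (1 : T ⟶ CoactBr.sp R (CoordGrp.GLn m R)), _root_.mul_one])

theorem mat_injective {f g : T ⟶ CoactBr.sp R (CoordGrp.GLn m R)} (h : mat f = mat g) : f = g := by
  letI := (alg T).toAlgebra
  refine ev_injective fun a => ?_
  have hX : ∀ i j, ev f (CoordGrp.GLn.X i j) = ev g (CoordGrp.GLn.X i j) := fun i j => congrFun (congrFun h i) j
  have hD : ev f CoordGrp.GLn.Dinv = ev g CoordGrp.GLn.Dinv := by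
    have h1 := det_mat f
    have h2 := det_mat g
    rw [h] at h1
    exact left_inv_eq_right_inv (by rw [mul_comm]; exact h1) h2
  exact DFunLike.congr_fun (CoordGrp.GLn.algHom_ext (f := (⟨ev f, ev_algebraMap f⟩ : _ →ₐ[R] _))
    (g := ⟨ev g, ev_algebraMap g⟩) hX hD) a

theorem exists_mat_eq {M : Matrix (Fin m) (Fin m) Γ(T.left, ⊤)} (hM : IsUnit M) :
    ∃ f : T ⟶ CoactBr.sp R (CoordGrp.GLn m R), mat f = M := by
  letI := (alg T).toAlgebra
  obtain ⟨d, hd⟩ := ((Matrix.isUnit_iff_isUnit_det _).1 hM).exists_right_inv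
  let χ := CoordGrp.GLn.pt m R M d hd
  refine ⟨mk χ.toRingHom fun r => χ.commutes r, Matrix.ext fun i j => ?_⟩
  show ev (mk (T := T) (A := CoordGrp.GLn m R) χ.toRingHom fun r => χ.commutes r) (CoordGrp.GLn.X i j) = _
  rw [ev_mk]
  exact CoordGrp.GLn.pt_X _ _ _ _ _

end Groth.Agent.DiagGL
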