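import Groth.Agent.Lib.DiagGL.Chars

/-! # A multiplicative matrix valued function on a diagonalisable group is a grading. -/

set_option autoImplicit false
set_option linter.style.haveILetI false
set_option backward.isDefEq.respectTransparency.types false
universe u

open CategoryTheory MonoidalCategory CartesianMonoidalCategory MonObj AlgebraicGeometry Opposite

noncomputable section

namespace Groth.Agent.DiagGL

variable (k : Type u) [Field k] (M : Type) [AddCommGroup M]

/-- `Spec k[M]`. -/
abbrev D : Over (Spec (CommRingCat.of k)) := CoactBr.sp k (MonoidAlgebra k (Multiplicative M))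

/-- `k[M] ≃ Γ(Spec k[M])`. -/
def emb : MonoidAlgebra k (Multiplicative M) ≃+* Γ((D k M).left, ⊤) :=
  (Scheme.ΓSpecIso (CommRingCat.of (MonoidAlgebra k (Multiplicative M)))).commRingCatIsoToRingEquiv.symm

theorem alg_D (r : k) : alg (D k M) r = emb k M (MonoidAlgebra.single 1 r) := by
  have h := ev_algebraMap (R := k) (A := MonoidAlgebra k (Multiplicative M)) (𝟙 (D k M)) r
  rw [← h]
  show ((Scheme.ΓSpecIso _).inv ≫ Scheme.Hom.appTop (𝟙 (Spec (CommRingCat.of (MonoidAlgebra k (Multiplicative M)))))).hom _ = _
  rw [Scheme.Hom.id_appTop, Category.comp_id]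
  rfl

/-- The characters of `Spec k[M]`. -/
def univChar : Multiplicative M →* Γ((D k M).left, ⊤) :=
  (emb k M : MonoidAlgebra k (Multiplicative M) →* _).comp (MonoidAlgebra.of k (Multiplicative M))

variable {k M}

theorem alg_comp {T T' : Over (Spec (CommRingCat.of k))} (t : T' ⟶ T) (r : k) :
    t.left.appTop (alg T r) = alg T' r := by
  simp only [alg]
  rw [show T'.hom = t.left ≫ T.hom from (Over.w t).symm, Scheme.Hom.comp_appTop]
  rfl

/-- The standard expression. -/
def expand {m : ℕ} [Fintype M] {T : Over (Spec (CommRingCat.of k))} (c : Multiplicative M →* Γ(T.left, ⊤))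
    (P : M → Matrix (Fin m) (Fin m) k) : Matrix (Fin m) (Fin m) Γ(T.left, ⊤) :=
  ∑ a, c (Multiplicative.ofAdd a) • (P a).map (alg T)

variable {m : ℕ} [Fintype M]

theorem expand_comp {T T' : Over (Spec (CommRingCat.of k))} (t : T' ⟶ T)
    (c : Multiplicative M →* Γ(T.left, ⊤)) (c' : Multiplicative M →* Γ(T'.left, ⊤))
    (hc : ∀ a, c' a = t.left.appTop (c a)) (P : M → Matrix (Fin m) (Fin m) k) :
    (expand c P).map t.left.appTop = expand c' P := by
  ext i j
  simp [expand, Matrix.sum_apply, hc, alg_comp]

theorem coeff_expand (P : M → Matrix (Fin m) (Fin m) k) (i j : Fin m) (a : M) :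
    ((emb k M).symm (expand (univChar k M) P i j)).coeff (Multiplicative.ofAdd a) = P a i j := by
  classical
  simp only [expand, Matrix.sum_apply, Matrix.smul_apply, Matrix.map_apply, smul_eq_mul, alg_D]
  rw [map_sum, MonoidAlgebra.coeff_sum, Finset.sum_apply']
  rw [Finset.sum_eq_single a]
  · simp [univChar]
  · intro b _ hb
    simp [univChar, hb]
  · simp

theorem expand_injective {P Q : M → Matrix (Fin m) (Fin m) k}
    (h : expand (univChar k M) P = expand (univChar k M) Q) : P = Q :=
  funext fun a => Matrix.ext fun i j => by rw [← coeff_expand P, h, coeff_expand]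

theorem exists_expand (A : Matrix (Fin m) (Fin m) Γ((D k M).left, ⊤)) :
    ∃ P : M → Matrix (Fin m) (Fin m) k, A = expand (univChar k M) P := by
  refine ⟨fun a => Matrix.of fun i j => ((emb k M).symm (A i j)).coeff (Multiplicative.ofAdd a),
    Matrix.ext fun i j => (emb k M).symm.injective (MonoidAlgebra.coeff_injective (Finsupp.ext fun a => ?_))⟩
  exact (coeff_expand (k := k) (M := M) (fun a => Matrix.of fun i j => ((emb k M).symm (A i j)).coeff (Multiplicative.ofAdd a)) i j (Multiplicative.toAdd a)).symm

variable {σ : Over (Spec (CommRingCat.of k))} [GrpObj σ] (C : Chars M σ)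

omit [Fintype M] in
theorem exists_uni : ∃ w : D k M ⟶ σ, C.ch w = univChar k M := C.surj _

omit [Fintype M] in
theorem exists_factor {w : D k M ⟶ σ} (hw : C.ch w = univChar k M)
    {T : Over (Spec (CommRingCat.of k))} (x : T ⟶ σ) :
    ∃ t : T ⟶ D k M, t ≫ w = x ∧ ∀ a, C.ch x a = t.left.appTop (univChar k M a) := by
  obtain ⟨t, ht⟩ := (charsDiag k M).surj (C.ch x)
  have he : ∀ a, t.left.appTop (univChar k M a) = C.ch x a := fun a => by
    rw [← ht]
    rfl
  exact ⟨t, C.inj fun a => by rw [C.nat, hw, he], fun a => (he a).symm⟩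

/-- Multiplicative matrix valued functions are gradings. -/
theorem exists_split (F : ∀ {T : Over (Spec (CommRingCat.of k))}, (T ⟶ σ) → Matrix (Fin m) (Fin m) Γ(T.left, ⊤))
    (Fnat : ∀ {T T' : Over (Spec (CommRingCat.of k))} (t : T' ⟶ T) (x : T ⟶ σ), F (t ≫ x) = (F x).map t.left.appTop)
    (Fmul : ∀ {T : Over (Spec (CommRingCat.of k))} (x y : T ⟶ σ), F (x * y) = F x * F y)
    (Fone : ∀ T : Over (Spec (CommRingCat.of k)), F (1 : T ⟶ σ) = 1) [DecidableEq M] :
    ∃ P : M → Matrix (Fin m) (Fin m) k, IsSplit P ∧
      ∀ (T : Over (Spec (CommRingCat.of k))) (x : T ⟶ σ), F x = expand (C.ch x) P := by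
  classical
  obtain ⟨w, hw⟩ := exists_uni C
  obtain ⟨P, hP⟩ := exists_expand (F w)
  have hform : ∀ (T : Over (Spec (CommRingCat.of k))) (x : T ⟶ σ), F x = expand (C.ch x) P := by
    intro T x
    obtain ⟨t, rfl, ht⟩ := exists_factor C hw x
    rw [Fnat, hP]
    exact expand_comp t _ _ ht P
  refine ⟨P, ⟨fun a b => ?_, ?_⟩, hform⟩
  · let U : Multiplicative M →* Γ((D k (M × M)).left, ⊤) :=
      (univChar k (M × M)).comp (AddMonoidHom.toMultiplicative (AddMonoidHom.inl M M))
    let V : Multiplicative M →* Γ((D k (M × M)).left, ⊤) :=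
      (univChar k (M × M)).comp (AddMonoidHom.toMultiplicative (AddMonoidHom.inr M M))
    obtain ⟨x, hx⟩ := C.surj U
    obtain ⟨y, hy⟩ := C.surj V
    have h := Fmul x y
    rw [hform, hform _ x, hform _ y] at h
    have h1 : expand (C.ch (x * y)) P =
        expand (univChar k (M × M)) (fun p : M × M => if p.1 = p.2 then P p.1 else 0) := by
      simp only [expand, Fintype.sum_prod_type]
      refine Finset.sum_congr rfl fun a _ => ?_
      rw [Finset.sum_eq_single a]
      · rw [if_pos rfl, C.mul, hx, hy]
        simp only [U, V, MonoidHom.comp_apply, ← map_mul]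
        congr 2
        apply Multiplicative.toAdd.injective
        simp
      · intro b _ hb
        rw [if_neg fun e => hb e.symm]
        simp
      · simp
    have h2 : expand (C.ch x) P * expand (C.ch y) P =
        expand (univChar k (M × M)) (fun p : M × M => P p.1 * P p.2) := by
      simp only [expand, Fintype.sum_prod_type, Finset.sum_mul, Finset.mul_sum, smul_mul_assoc, mul_smul_comm,
        smul_smul, Matrix.map_mul, Finset.smul_sum]
      rw [Finset.sum_comm]
      refine Finset.sum_congr rfl fun a _ => Finset.sum_congr rfl fun b _ => ?_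
      rw [hx, hy]
      congr 1
      simp only [U, V, MonoidHom.comp_apply, ← map_mul]
      congr 1
      apply Multiplicative.toAdd.injective
      simp
    have := congrFun (expand_injective (h1.symm.trans (h.trans h2))) (a, b)
    exact this.symm
  · have h := hform _ (1 : D k M ⟶ σ)
    rw [Fone] at h
    have h1 : expand (C.ch (1 : D k M ⟶ σ)) P = (∑ a, P a).map (alg (D k M)) := by
      simp only [expand, C.one, one_smul]
      exact (map_sum ((alg (D k M)).mapMatrix) P Finset.univ).symm
    have hinj : Function.Injective ((alg (D k M)).mapMatrix (m := Fin m)) :=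
      fun A B hAB => Matrix.ext fun i j => by
        have e := congrFun (congrFun hAB i) j
        simp only [RingHom.mapMatrix_apply, Matrix.map_apply, alg_D] at e
        have e' := (emb k M).injective e
        exact MonoidAlgebra.single_right_injective e'
    refine hinj ?_
    rw [map_one]
    exact h1.symm.trans h.symm

end Groth.Agent.DiagGL
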